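import Groth.Agent.Lib.GGDesc10.Main
import Groth.Agent.Lib.TensorPerf20.FlatKernel
import Groth.Agent.Lib.QCoh.SupportExact
import Groth.Agent.Lib.ModDesc.Approx
import Groth.Agent.Lib.Ample.Generation

/-!
# Global generation spreads out from a local ring of the base
-/

set_option autoImplicit false
set_option linter.style.haveILetI false
set_option backward.isDefEq.respectTransparency false
set_option maxHeartbeats 1000000

universe u

open CategoryTheory CategoryTheory.Limits AlgebraicGeometry Opposite TopologicalSpace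

noncomputable section

namespace GrothLib.GGSpread20

variable {X X' : Scheme.{u}}

/-- A flat map detects surjectivity on stalks at the points of its image. -/
theorem epi_stalk_of_epi_pullback (π : X' ⟶ X) [Flat π] {M N : X.Modules} (φ : M ⟶ N)
    (hp : Epi ((Scheme.Modules.pullback π).map φ)) (z : X') : Epi ((OX.stalk (π z)).map φ) := by
  have hz : Epi ((ModuleCat.extendScalars (π.stalkMap z).hom).map ((OX.stalk (π z)).map φ)) := by
    refine ((MorphismProperty.epimorphisms _).arrow_mk_iso_iff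
      (Arrow.isoMk ((OX.pullStalkIso π z).app M) ((OX.pullStalkIso π z).app N)
        ((OX.pullStalkIso π z).hom.naturality φ).symm)).1 ?_
    exact (OX.epi_iff _).1 hp z
  rw [ModuleCat.epi_iff_surjective] at hz ⊢
  let B := X.presheaf.stalk (π z)
  let S := X'.presheaf.stalk z
  letI : Algebra B S := (π.stalkMap z).hom.toAlgebra
  haveI : Module.Flat B S := Flat.stalkMap π z
  haveI : IsLocalHom (algebraMap B S) := inferInstanceAs (IsLocalHom (π.stalkMap z).hom)
  haveI : Module.FaithfullyFlat B S := Module.FaithfullyFlat.of_flat_of_isLocalHom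
  refine (Module.FaithfullyFlat.lTensor_surjective_iff_surjective B S ((OX.stalk (π z)).map φ).hom).1 ?_
  exact hz

/-- The sections pulled back along a flat base change generate. -/
theorem epi_pullback_freeCover {A A' : Type u} [CommRing A] [CommRing A'] (ψ : A →+* A')
    {f : X ⟶ Spec (CommRingCat.of A)} [QuasiCompact f] [QuasiSeparated f] {g' : X' ⟶ X}
    {f' : X' ⟶ Spec (CommRingCat.of A')} [Flat (Spec.map (CommRingCat.ofHom ψ))]
    (H : IsPullback g' f' f (Spec.map (CommRingCat.ofHom ψ))) (F : X.Modules) [F.IsQuasicoherent]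
    (h : Curv2.IsGloballyGenerated ((Scheme.Modules.pullback g').obj F)) :
    Epi ((Scheme.Modules.pullback g').map (FunMor20.freeCover F)) := by
  let q := FunMor20.freeCover F
  refine ⟨fun {N : X'.Modules} a b hab => ?_⟩
  have hs : ∀ s : Γ(F, ⊤), a.app ⊤ (QCoh.pullSec g' F (le_top : (⊤ : X'.Opens) ≤ g' ⁻¹ᵁ ⊤) s) =
      b.app ⊤ (QCoh.pullSec g' F (le_top : (⊤ : X'.Opens) ≤ g' ⁻¹ᵁ ⊤) s) := by
    intro s
    let o := (Sigma.ι (fun _ : Γ(F, ⊤) => Coh.structureModule X) s).app ⊤ (FinCov.one X ⊤)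
    have hq : q.app ⊤ o = s := by
      show (Sigma.ι (fun _ : Γ(F, ⊤) => Coh.structureModule X) s ≫ q).app ⊤ (FinCov.one X ⊤) = s
      simp only [q, FunMor20.freeCover, Sigma.ι_desc]
      exact (FinCov.homOfSection_one s ⊤).trans (LefEt7.presheaf_map_self _ _ _)
    have hn := QCoh.pullSec_natural g' q (le_top : (⊤ : X'.Opens) ≤ g' ⁻¹ᵁ ⊤) o
    rw [← hq]
    erw [← hn]
    exact congrArg (fun k => Scheme.Modules.Hom.app k ⊤ (QCoh.pullSec g' _ (le_top : (⊤ : X'.Opens) ≤ g' ⁻¹ᵁ ⊤) o)) hab
  have hall := GGDesc10.agree_on_sections ψ H a b hs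
  obtain ⟨ι, p, hp⟩ := h
  exact (cancel_epi p).1 (LefEt7.eq_of_freeHom_top a b fun i => hall _)

/-- Pullbacks of a generating family generate where the family generates. -/
theorem isGloballyGenerated_pullback_of_epi_stalk (π : X' ⟶ X) (F : X.Modules)
    (h : ∀ z, Epi ((OX.stalk (π z)).map (FunMor20.freeCover F))) :
    Curv2.IsGloballyGenerated ((Scheme.Modules.pullback π).obj F) := by
  haveI := (Scheme.Modules.pullbackPushforwardAdjunction π).isLeftAdjoint
  let P := Scheme.Modules.pullback π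
  obtain ⟨v⟩ := Ample.nonempty_pullback_structureModule π
  let e : (∐ fun _ : Γ(F, ⊤) => Coh.structureModule X') ≅ P.obj (∐ fun _ : Γ(F, ⊤) => Coh.structureModule X) :=
    (Sigma.mapIso fun _ => v.symm) ≪≫ (PreservesCoproduct.iso P fun _ : Γ(F, ⊤) => Coh.structureModule X).symm
  haveI : Epi (P.map (FunMor20.freeCover F)) := by
    refine (OX.epi_iff _).2 fun z => ?_
    refine ((MorphismProperty.epimorphisms _).arrow_mk_iso_iff
      (Arrow.isoMk ((OX.pullStalkIso π z).app _) ((OX.pullStalkIso π z).app F)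
        ((OX.pullStalkIso π z).hom.naturality (FunMor20.freeCover F)).symm)).2 ?_
    haveI := h z
    exact (ModuleCat.extendScalars (π.stalkMap z).hom).map_epi _
  exact ⟨Γ(F, ⊤), e.hom ≫ P.map (FunMor20.freeCover F), epi_comp _ _⟩

variable {Y : Scheme.{u}} (f : X ⟶ Y) [IsProper f]

/-- Generation over a local ring of the base extends to a neighbourhood. -/
theorem exists_open_isGloballyGenerated (L : X.Modules) (hL : Coh.IsCoh L) (y : Y)
    (h : Curv2.IsGloballyGenerated ((Scheme.Modules.pullback (pullback.fst f (Y.fromSpecStalk y))).obj L)) :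
    ∃ V : Y.Opens, y ∈ V ∧ Curv2.IsGloballyGenerated (L.restrict (f ⁻¹ᵁ V).ι) := by
  obtain ⟨W, hW, hyW, -⟩ := exists_isAffineOpen_mem_and_subset (x := y) (U := ⊤) trivial
  let ψ : Γ(Y, W) →+* Y.presheaf.stalk y := (Y.presheaf.germ W y hyW).hom
  have hψ : Spec.map (CommRingCat.ofHom ψ) ≫ hW.fromSpec = Y.fromSpecStalk y :=
    hW.fromSpecStalk_eq_fromSpecStalk hyW
  haveI : Flat (Spec.map (CommRingCat.ofHom ψ)) := by
    letI := TopCat.Presheaf.algebra_section_stalk Y.presheaf (U := W) ⟨y, hyW⟩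
    haveI := hW.isLocalization_stalk ⟨y, hyW⟩
    rw [HasRingHomProperty.Spec_iff (P := @Flat)]
    exact RingHom.flat_algebraMap_iff.2
      (IsLocalization.flat (Y.presheaf.stalk y) (hW.primeIdealOf ⟨y, hyW⟩).asIdeal.primeCompl)
  let XW := pullback f hW.fromSpec
  let j : XW ⟶ X := pullback.fst _ _
  let fW : XW ⟶ Spec (CommRingCat.of Γ(Y, W)) := pullback.snd _ _
  haveI : IsProper fW := inferInstanceAs (IsProper (pullback.snd f hW.fromSpec))
  let T := pullback fW (Spec.map (CommRingCat.ofHom ψ))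
  let g' : T ⟶ XW := pullback.fst _ _
  let F := (Scheme.Modules.pullback j).obj L
  have hF : Coh.IsCoh F := ModDesc.isCoh_pullback j L hL
  haveI : F.IsQuasicoherent := hF.1
  -- generation over the local ring
  have hsq : (g' ≫ j) ≫ f = pullback.snd fW (Spec.map (CommRingCat.ofHom ψ)) ≫ Y.fromSpecStalk y := by
    rw [Category.assoc, show j ≫ f = fW ≫ hW.fromSpec from pullback.condition, ← Category.assoc,
      show g' ≫ fW = pullback.snd _ _ ≫ Spec.map (CommRingCat.ofHom ψ) from pullback.condition, Category.assoc, hψ]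
  let w : T ⟶ pullback f (Y.fromSpecStalk y) := pullback.lift (g' ≫ j) (pullback.snd _ _) hsq
  have hgen : Curv2.IsGloballyGenerated ((Scheme.Modules.pullback g').obj F) := by
    refine Ample.isGloballyGenerated_of_iso
      ((Scheme.Modules.pullbackComp w (pullback.fst f (Y.fromSpecStalk y))).app L ≪≫
        (Scheme.Modules.pullbackCongr (pullback.lift_fst _ _ hsq)).app L ≪≫
        ((Scheme.Modules.pullbackComp g' j).app L).symm) (GGDesc10.isGloballyGenerated_pullback w h)
  haveI := epi_pullback_freeCover ψ (IsPullback.of_hasPullback fW (Spec.map (CommRingCat.ofHom ψ))) F hgen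
  haveI : Flat g' := inferInstanceAs (Flat (pullback.fst fW (Spec.map (CommRingCat.ofHom ψ))))
  let q := FunMor20.freeCover F
  let C := cokernel q
  haveI : (∐ fun _ : Γ(F, ⊤) => Coh.structureModule XW).IsQuasicoherent :=
    QCoh.isQuasicoherent_colimit _ fun _ => WeakAss.isQuasicoherent_structureModule
  have hC : Coh.IsCoh C := TensorPerf20.isCoh_of_epi (cokernel.π q) hF (QCoh.isQuasicoherent_cokernel q)
  have hclosed : IsClosed (fW '' CohB1.support C) :=
    fW.isClosedMap _ (QCoh.isClosed_support_of_isCoh hC)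
  -- the stalks of the cokernel
  have hiff : ∀ x : XW, x ∉ CohB1.support C ↔ Epi ((OX.stalk x).map q) := by
    intro x
    have hex := ((OX.exact_iff (ShortComplex.mk q (cokernel.π q) (cokernel.condition q))).1
      (ShortComplex.exact_of_g_is_cokernel _ (cokernelIsCokernel q)) x)
    rw [ModuleCat.epi_iff_surjective]
    constructor
    · intro hx v
      haveI : Subsingleton ((OX.stalk x).obj C) := not_not.1 hx
      exact (ShortComplex.moduleCat_exact_iff _).1 hex v (Subsingleton.elim (α := (OX.stalk x).obj C) _ _)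
    · intro hs hne
      refine hne (subsingleton_of_forall_eq 0 fun (v : (OX.stalk x).obj C) => ?_)
      obtain ⟨m, rfl⟩ := (ModuleCat.epi_iff_surjective _).1 ((OX.epi_iff (cokernel.π q)).1 inferInstance x) v
      obtain ⟨a, rfl⟩ := hs m
      show ((OX.stalk x).map q ≫ (OX.stalk x).map (cokernel.π q)).hom a = 0
      rw [← Functor.map_comp, cokernel.condition, Functor.map_zero]
      rfl
  let U : (Spec (CommRingCat.of Γ(Y, W))).Opens := ⟨(fW '' CohB1.support C)ᶜ, hclosed.isOpen_compl⟩
  refine ⟨hW.fromSpec ''ᵁ U, ⟨(Spec.map (CommRingCat.ofHom ψ)) (IsLocalRing.closedPoint _), ?_, ?_⟩, ?_⟩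
  · rintro ⟨x, hx, hxy⟩
    obtain ⟨t, rfl, -⟩ := Scheme.Pullback.exists_preimage_pullback (f := fW) (g := Spec.map (CommRingCat.ofHom ψ)) x (IsLocalRing.closedPoint (Y.presheaf.stalk y)) hxy
    exact (hiff _).2 (epi_stalk_of_epi_pullback g' q inferInstance t) hx
  · exact ((Scheme.Hom.comp_apply _ _ _).symm.trans (congr($(hψ) _))).trans Y.fromSpecStalk_closedPoint
  let V := f ⁻¹ᵁ (hW.fromSpec ''ᵁ U)
  have hrange : Set.range (V.ι ≫ f) ⊆ Set.range hW.fromSpec := by
    rintro _ ⟨z, rfl⟩
    obtain ⟨p, -, hp⟩ := z.2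
    exact ⟨p, hp⟩
  let t := IsOpenImmersion.lift hW.fromSpec (V.ι ≫ f) hrange
  have ht : t ≫ hW.fromSpec = V.ι ≫ f := IsOpenImmersion.lift_fac _ _ _
  let l : V.toScheme ⟶ XW := pullback.lift V.ι t ht.symm
  refine Ample.isGloballyGenerated_of_iso
    ((Scheme.Modules.pullbackComp l j).app L ≪≫ (Scheme.Modules.pullbackCongr (pullback.lift_fst _ _ _)).app L ≪≫
      ((Scheme.Modules.restrictFunctorIsoPullback V.ι).app L).symm)
    (isGloballyGenerated_pullback_of_epi_stalk l F fun z => (hiff _).1 fun hz => ?_)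
  obtain ⟨p, hp, hpz⟩ := z.2
  have h1 : fW (l z) = t z := by
    rw [← Scheme.Hom.comp_apply, pullback.lift_snd]; rfl
  have h2 : t z = p := hW.fromSpec.isOpenEmbedding.injective (by
    rw [← Scheme.Hom.comp_apply, ht]; exact hpz.symm)
  exact hp ⟨_, hz, h1.trans h2⟩

end GrothLib.GGSpread20
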